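import Cfsg.Agent.H610.EB.Red
import Cfsg.Agent.H597.RelThompson
import Cfsg.Agent.H597.Taketa
import Cfsg.Agent.H597.Degrees
import Cfsg.Agent.Classification.QDW.BorelOrb
import Cfsg.Agent.S4491
import Cfsg.Agent.S4888
import Cfsg.Agent.S0907
import Cfsg.Agent.Blocks.Knorr

/-!
# The commutator subgroup of the Sylow 2-subgroup normal (helper724, task 3719, S4515, R8)

`exists_even_of_normal_commutator` : if `P' ≠ 1` is normal in `G`, then the principal 2-block contains a
character of even degree fixed by the power map.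
-/

set_option autoImplicit false
set_option linter.unusedSectionVars false
set_option linter.style.haveILetI false

namespace Cfsg.Agent.H724.EB515

open Cfsg Cfsg.Agent.Characters Cfsg.Agent.H694
open scoped ComplexConjugate
open Cfsg.Agent.Characters.Core
open Cfsg.Agent.Blocks.Local Cfsg.Agent.Blocks.Basic Cfsg.Agent.Blocks.Orthogonality
open Cfsg.Agent.H610 Cfsg.Agent.H610.EB

universe u

/-- A linear constituent: the principal character is a constituent of the restriction to the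
commutator subgroup. -/
theorem inner_commutator_ne_zero {P : Type u} [Group P] [Fintype P] {X : P → ℂ} (hX : IsCharacter P X)
    {ψ : P → ℂ} (hψ : IsIrrCharacter P ψ) (h1 : charDegree ψ = 1) (hne : classInner X ψ ≠ 0)
    [Fintype (commutator P)] :
    classInner (fun d : commutator P => X d) (fun _ => (1 : ℂ)) ≠ 0 := by
  classical
  have : Finite (IrrCharacter P) := finite_irr
  have : Fintype (IrrCharacter P) := Fintype.ofFinite _
  have hn : ∀ η : IrrCharacter P, ∃ n : ℕ, classInner X (η : P → ℂ) = n := fun η =>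
    classInner_isNat hX (isIrr_isCharacter η.2)
  have hm : ∀ η : IrrCharacter P, ∃ m : ℕ, classInner (fun d : commutator P => (η : P → ℂ) d) (fun _ => (1 : ℂ)) = m :=
    fun η => classInner_isNat (Clifford.isCharacter_restrict _ (isIrr_isCharacter η.2))
      (isIrr_isCharacter isIrrCharacter_one)
  choose n hn using hn
  choose m hm using hm
  have h2 : classInner (fun d : commutator P => X d) (fun _ => (1 : ℂ)) = ((∑ η : IrrCharacter P, n η * m η : ℕ) : ℂ) := by
    have h3 : (fun d : commutator P => X d) =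
        ∑ η : IrrCharacter P, (n η : ℂ) • (fun d : commutator P => (η : P → ℂ) d) := by
      funext d
      have h4 := congrFun (classFunction_eq_sum (isCharacter_isClassFunction hX)) (d : P)
      rw [h4, Finset.sum_apply, Finset.sum_apply]
      refine Finset.sum_congr rfl fun η _ => ?_
      rw [Pi.smul_apply, Pi.smul_apply, hn]
    rw [h3, classInner_sum_left]
    push_cast
    refine Finset.sum_congr rfl fun η _ => ?_
    rw [classInner_smul_left, hm]
  rw [h2]
  have hψ1 : m ⟨ψ, hψ⟩ = 1 := by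
    have h3 := hm ⟨ψ, hψ⟩
    have h4 : (fun d : commutator P => ψ d) = fun _ => (1 : ℂ) := by
      funext d
      rw [Cfsg.Agent.H597.Taketa.commutator_le_ker_of_linear hψ h1 d d.2, irr_one_eq_charDegree hψ, h1, Nat.cast_one]
    have h5 : classInner (fun _ : commutator P => (1 : ℂ)) (fun _ => (1 : ℂ)) = 1 :=
      classInner_irr_self isIrrCharacter_one
    change classInner (fun d : commutator P => ψ d) (fun _ => (1 : ℂ)) = _ at h3
    rw [h4, h5] at h3
    exact_mod_cast h3.symm
  have hψn : n ⟨ψ, hψ⟩ ≠ 0 := by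
    intro h
    apply hne
    have := hn ⟨ψ, hψ⟩
    rw [h, Nat.cast_zero] at this
    exact this
  have h6 : n ⟨ψ, hψ⟩ * m ⟨ψ, hψ⟩ ≤ ∑ η : IrrCharacter P, n η * m η :=
    Finset.single_le_sum (f := fun η : IrrCharacter P => n η * m η) (fun _ _ => Nat.zero_le _) (Finset.mem_univ _)
  rw [hψ1, mul_one] at h6
  have h7 : (∑ η : IrrCharacter P, n η * m η) ≠ 0 := by omega
  exact_mod_cast h7

variable {G : Type u} [Group G] [Fintype G]

/-- Above a nonlinear character there are only nonlinear characters. -/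
theorem nonlinear_of_nonlinear (P : Subgroup G) [Fintype P] (hn : ((commutator P).map P.subtype).Normal)
    {χ : G → ℂ} (hχ : IsIrrCharacter G χ) {ξ ψ : P → ℂ} (hξ : IsIrrCharacter P ξ) (hψ : IsIrrCharacter P ψ)
    (hξ0 : classInner (fun x : P => χ x) ξ ≠ 0) (hψ0 : classInner (fun x : P => χ x) ψ ≠ 0)
    (h1 : charDegree ψ = 1) : charDegree ξ = 1 := by
  classical
  have hXc : IsCharacter P (fun x : P => χ x) := Clifford.isCharacter_restrict P (isIrr_isCharacter hχ)
  have : Fintype (commutator P) := Fintype.ofFinite _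
  have : Fintype ((commutator P).map P.subtype : Subgroup G) := Fintype.ofFinite _
  have h2 := inner_commutator_ne_zero hXc hψ h1 hψ0
  let e : commutator P ≃* ((commutator P).map P.subtype : Subgroup G) :=
    (commutator P).equivMapOfInjective P.subtype P.subtype_injective
  have h3 : classInner (fun d : ((commutator P).map P.subtype : Subgroup G) => χ d)
      (fun d => (((1 : ((commutator P).map P.subtype : Subgroup G) →* ℂˣ) d : ℂˣ) : ℂ)) ≠ 0 := by
    have h4 := Clifford.classInner_comp_mulEquiv e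
      (fun d : ((commutator P).map P.subtype : Subgroup G) => χ d) (fun _ => (1 : ℂ))
    intro h5
    apply h2
    have h6 : classInner (fun d : ((commutator P).map P.subtype : Subgroup G) => χ d) (fun _ => (1 : ℂ)) = 0 := by
      rw [← h5]
      congr 1
    rw [← h6, ← h4]
    rfl
  have h7 : ∀ d ∈ commutator P, χ (d : G) = χ 1 := by
    intro d hd
    exact Cfsg.Agent.Classification.QDW.BorelOrb.apply_eq_of_conj ((commutator P).map P.subtype) hχ h3
      (x := ⟨(d : G), Subgroup.mem_map_of_mem _ hd⟩) (fun _ => rfl)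
  refine Cfsg.Agent.H597.RelThompson.charDegree_eq_one hξ fun d hd => ?_
  exact Cfsg.Agent.H597.Base.ker_of_constituent hXc hξ hξ0 (h7 d hd)

/-- The degree as a sum over the constituents of the restriction. -/
theorem dvd_degree (P : Subgroup G) [Fintype P] {χ : G → ℂ} (hχ : IsIrrCharacter G χ) {b : ℕ}
    (h : ∀ ψ : P → ℂ, IsIrrCharacter P ψ → classInner (fun x : P => χ x) ψ ≠ 0 → b ∣ charDegree ψ) :
    b ∣ charDegree χ := by
  classical
  have : Finite (IrrCharacter P) := finite_irr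
  have : Fintype (IrrCharacter P) := Fintype.ofFinite _
  have hXc : IsCharacter P (fun x : P => χ x) := Clifford.isCharacter_restrict P (isIrr_isCharacter hχ)
  have hn : ∀ η : IrrCharacter P, ∃ n : ℕ, classInner (fun x : P => χ x) (η : P → ℂ) = n := fun η =>
    classInner_isNat hXc (isIrr_isCharacter η.2)
  choose n hn using hn
  have h1 : (charDegree χ : ℂ) = ((∑ η : IrrCharacter P, n η * charDegree (η : P → ℂ) : ℕ) : ℂ) := by
    rw [← irr_one_eq_charDegree hχ]
    have h4 := congrFun (classFunction_eq_sum (isCharacter_isClassFunction hXc)) (1 : P)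
    rw [show χ 1 = χ ((1 : P) : G) from rfl, h4, Finset.sum_apply]
    push_cast
    refine Finset.sum_congr rfl fun η _ => ?_
    rw [Pi.smul_apply, hn, ← irr_one_eq_charDegree η.2, smul_eq_mul]
  have h2 : charDegree χ = ∑ η : IrrCharacter P, n η * charDegree (η : P → ℂ) := by exact_mod_cast h1
  rw [h2]
  refine Finset.dvd_sum fun η _ => ?_
  by_cases h0 : n η = 0
  · rw [h0, zero_mul]; exact dvd_zero _
  · refine Dvd.dvd.mul_left (h η η.2 ?_) _
    rw [hn]
    exact_mod_cast h0

/-- **R8**: the commutator subgroup of the Sylow subgroup normal. -/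
theorem exists_even_of_normal_commutator {M : Ideal AlgInt} (hM : IsPModular 2 M) {k : ℕ} (hk : IsK G k)
    (P : Sylow 2 G) (hP : ¬ IsMulCommutative P)
    (hn : ((commutator P).map (P : Subgroup G).subtype).Normal) :
    ∃ χ ∈ principalBlock M G, Even (charDegree (χ : G → ℂ)) ∧
      ∀ g : G, (χ : G → ℂ) (g ^ k) = (χ : G → ℂ) g := by
  classical
  have h2f : Fact (Nat.Prime 2) := ⟨Nat.prime_two⟩
  have hMp : M.IsPrime := isPrime_of_isPModular hM
  have : Finite (IrrCharacter G) := finite_irr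
  have : Fintype (IrrCharacter G) := Fintype.ofFinite _
  have : Fintype (P : Subgroup G) := Fintype.ofFinite _
  obtain ⟨v, hv⟩ := (IsPGroup.iff_card (p := 2) (G := P)).1 P.2
  have hvG : (Nat.card G).factorization 2 = v := by
    have h1 := P.card_eq_multiplicity
    rw [hv] at h1
    exact (Nat.pow_right_injective le_rfl h1).symm
  -- degrees of `P`
  have hdeg : ∀ ψ : P → ℂ, IsIrrCharacter P ψ → ∃ b, charDegree ψ = 2 ^ b := by
    intro ψ hψ
    have h1 := Cfsg.Agent.Blocks.Knorr.charDegree_dvd hψ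
    rw [hv] at h1
    obtain ⟨b, -, hb⟩ := (Nat.dvd_prime_pow Nat.prime_two).1 h1
    exact ⟨b, hb⟩
  -- a nonlinear character of minimal degree
  obtain ⟨ξ, hξ, a, ha, ha1, hmin⟩ : ∃ ξ : P → ℂ, IsIrrCharacter P ξ ∧ ∃ a, charDegree ξ = 2 ^ a ∧ 1 ≤ a ∧
      ∀ ψ : P → ℂ, IsIrrCharacter P ψ → charDegree ψ ≠ 1 → 2 ^ a ∣ charDegree ψ := by
    have h1 : ∃ a, 1 ≤ a ∧ ∃ ξ : P → ℂ, IsIrrCharacter P ξ ∧ charDegree ξ = 2 ^ a := by
      by_contra hcon
      push Not at hcon
      apply hP
      have h2 : ∀ χ : P → ℂ, IsIrrCharacter P χ → charDegree χ = 1 := by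
        intro χ hχ
        obtain ⟨b, hb⟩ := hdeg χ hχ
        have h3 : b = 0 := by
          by_contra hb0
          exact hcon b (by omega) χ hχ hb
        rw [hb, h3, pow_zero]
      exact ⟨⟨fun a b => Cfsg.Agent.H597.Degrees.comm_of_forall_one h2 a b⟩⟩
    have h2 := Nat.find_spec h1
    obtain ⟨ha1, ξ, hξ, ha⟩ := h2
    refine ⟨ξ, hξ, Nat.find h1, ha, ha1, fun ψ hψ hne => ?_⟩
    obtain ⟨b, hb⟩ := hdeg ψ hψ
    rw [hb]
    apply pow_dvd_pow
    refine Nat.find_min' h1 ⟨?_, ψ, hψ, hb⟩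
    by_contra hb0
    apply hne
    rw [hb, show b = 0 by omega, pow_zero]
  -- the characters over `ξ`
  set B := principalBlock M G with hB
  have hover : ∀ χ : IrrCharacter G, classInner (fun x : P => (χ : G → ℂ) x) ξ ≠ 0 →
      2 ^ a ∣ charDegree (χ : G → ℂ) := by
    intro χ h0
    refine dvd_degree (P : Subgroup G) χ.2 fun ψ hψ hψ0 => hmin ψ hψ fun h1 => ?_
    have h2 := nonlinear_of_nonlinear (P : Subgroup G) hn χ.2 hξ hψ h0 hψ0 h1
    rw [ha] at h2
    have h3 : (2 : ℕ) ^ 1 ≤ 2 ^ a := Nat.pow_le_pow_right (by norm_num) ha1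
    omega
  -- the multiplicities
  have hmu : ∀ χ : IrrCharacter G, classInner (fun x : P => (χ : G → ℂ) x) ξ =
      (mu (fun x : P => (χ : G → ℂ) x) ξ : ℂ) := fun χ =>
    irr_mu_spec (Clifford.isCharacter_restrict _ (isIrr_isCharacter χ.2)) hξ
  -- the sum
  have hsum : (Nat.card P : ℤ) * ∑ χ : IrrCharacter G with χ ∈ B,
      mu (fun x : P => (χ : G → ℂ) x) ξ * (charDegree (χ : G → ℂ) : ℤ) =
      2 ^ a * ∑ χ : IrrCharacter G with χ ∈ B, (charDegree (χ : G → ℂ) : ℤ) ^ 2 := by
    have h1 : classInner (fun x : P => ∑ χ : IrrCharacter G with χ ∈ B, (charDegree (χ : G → ℂ) : ℂ) * (χ : G → ℂ) x) ξ =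
        ∑ χ : IrrCharacter G with χ ∈ B, (charDegree (χ : G → ℂ) : ℂ) * (mu (fun x : P => (χ : G → ℂ) x) ξ : ℂ) := by
      have h2 : (fun x : P => ∑ χ : IrrCharacter G with χ ∈ B, (charDegree (χ : G → ℂ) : ℂ) * (χ : G → ℂ) x) =
          ∑ χ : IrrCharacter G with χ ∈ B, (charDegree (χ : G → ℂ) : ℂ) • (fun x : P => (χ : G → ℂ) x) := by
        funext x
        rw [Finset.sum_apply]
        rfl
      rw [h2, classInner_sum_left]
      refine Finset.sum_congr rfl fun χ _ => ?_
      rw [classInner_smul_left, hmu]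
    have hzero : ∀ x : P, x ≠ 1 → ∑ χ : IrrCharacter G with χ ∈ B, (charDegree (χ : G → ℂ) : ℂ) * (χ : G → ℂ) x = 0 := by
      intro x hx
      have h2 := S0907.result 2 M hM B ⟨⟨fun _ => 1, isIrrCharacter_one⟩, rfl⟩ (1 : G) (x : G)
        (by rw [orderOf_one]; norm_num) (by
          obtain ⟨j, hj⟩ := P.2 x
          have h3 : orderOf x ∣ 2 ^ j := orderOf_dvd_of_pow_eq_one hj
          obtain ⟨i, -, hi⟩ := (Nat.dvd_prime_pow Nat.prime_two).1 h3
          rw [← Subgroup.orderOf_coe] at hi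
          rw [hi]
          refine dvd_pow_self 2 ?_
          rintro rfl
          rw [pow_zero, Subgroup.orderOf_coe, orderOf_eq_one_iff] at hi
          exact hx hi)
      rw [Cfsg.Agent.Blocks.Orthogonality.finsum_mem_eq_sum_filter] at h2
      have h3 := congrArg (starRingEnd ℂ) h2
      rw [map_zero, map_sum] at h3
      rw [← h3]
      refine Finset.sum_congr rfl fun χ _ => ?_
      rw [map_mul, Complex.conj_conj, irr_one_eq_charDegree χ.2, Complex.conj_natCast]
    have h4 : (Nat.card P : ℂ) * classInner (fun x : P => ∑ χ : IrrCharacter G with χ ∈ B,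
        (charDegree (χ : G → ℂ) : ℂ) * (χ : G → ℂ) x) ξ =
        (∑ χ : IrrCharacter G with χ ∈ B, (charDegree (χ : G → ℂ) : ℂ) ^ 2) * 2 ^ a := by
      have e1 : ∀ z : ℂ, (Nat.card (P : Subgroup G) : ℂ) * ((Nat.card (P : Subgroup G) : ℂ)⁻¹ * z) = z := fun z =>
        mul_inv_cancel_left₀ (by exact_mod_cast Nat.card_pos.ne') z
      rw [Core.classInner_def]
      refine (e1 _).trans ?_
      rw [Finset.sum_eq_single (1 : P)]
      · have h5 : conj (ξ 1) = 2 ^ a := by
          rw [irr_one_eq_charDegree hξ, ha]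
          push_cast
          rw [map_pow]
          congr 1
          exact Complex.conj_ofNat 2
        rw [h5]
        congr 1
        refine Finset.sum_congr rfl fun χ _ => ?_
        rw [OneMemClass.coe_one, irr_one_eq_charDegree χ.2, pow_two]
      · intro x _ hx
        rw [hzero x hx, zero_mul]
      · intro h
        exact absurd (Finset.mem_univ _) h
    rw [h1] at h4
    have h6 : ((Nat.card P : ℤ) : ℂ) * ((∑ χ : IrrCharacter G with χ ∈ B,
      mu (fun x : P => (χ : G → ℂ) x) ξ * (charDegree (χ : G → ℂ) : ℤ) : ℤ) : ℂ) =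
      ((2 ^ a * ∑ χ : IrrCharacter G with χ ∈ B, (charDegree (χ : G → ℂ) : ℤ) ^ 2 : ℤ) : ℂ) := by
      push_cast
      rw [mul_comm ((2 : ℂ) ^ a), ← h4]
      congr 1
      refine Finset.sum_congr rfl fun χ _ => ?_
      rw [mul_comm]
    exact_mod_cast h6
  -- the sum of the squares
  obtain ⟨c, hc, hc'⟩ : ∃ c : ℕ, Odd c ∧ ∑ χ : IrrCharacter G with χ ∈ B, charDegree (χ : G → ℂ) ^ 2 = 2 ^ v * c := by
    have h1 := S4491.result 2 M hM B ⟨⟨fun _ => 1, isIrrCharacter_one⟩, rfl⟩
    rw [S4888.blockDefect_principal 2 hM, hvG] at h1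
    have h2 : ∑ᶠ χ ∈ B, charDegree (χ : G → ℂ) ^ 2 = ∑ χ : IrrCharacter G with χ ∈ B, charDegree (χ : G → ℂ) ^ 2 := by
      rw [finsum_mem_eq_finite_toFinset_sum _ (Set.toFinite B)]
      refine Finset.sum_congr ?_ fun _ _ => rfl
      ext χ
      simp
    rw [h2, show 2 * v - v = v by omega] at h1
    have h3 : ∑ χ : IrrCharacter G with χ ∈ B, charDegree (χ : G → ℂ) ^ 2 ≠ 0 := by
      have h4 : (⟨fun _ => 1, isIrrCharacter_one⟩ : IrrCharacter G) ∈ B := by
        intro g
        rw [sub_self]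
        exact memLocalIdeal_zero
      intro h5
      rw [Finset.sum_eq_zero_iff] at h5
      have h6 := h5 _ (Finset.mem_filter.2 ⟨Finset.mem_univ _, h4⟩)
      exact absurd (pow_eq_zero_iff (two_ne_zero) |>.1 h6) (charDegree_pos isIrrCharacter_one).ne'
    refine ⟨(∑ χ : IrrCharacter G with χ ∈ B, charDegree (χ : G → ℂ) ^ 2) / 2 ^ v, ?_, ?_⟩
    · rw [← Nat.not_even_iff_odd, even_iff_two_dvd]
      have := Nat.not_dvd_ordCompl Nat.prime_two h3
      rwa [h1] at this
    · have := Nat.ordProj_mul_ordCompl_eq_self (∑ χ : IrrCharacter G with χ ∈ B, charDegree (χ : G → ℂ) ^ 2) 2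
      rw [h1] at this
      exact this.symm
  have hodd : Odd (∑ χ : {χ : IrrCharacter G // χ ∈ B},
      mu (fun x : P => ((χ : IrrCharacter G) : G → ℂ) x) ξ * ((charDegree ((χ : IrrCharacter G) : G → ℂ) / 2 ^ a : ℕ) : ℤ)) := by
    have h1 : ∑ χ : {χ : IrrCharacter G // χ ∈ B},
        mu (fun x : P => ((χ : IrrCharacter G) : G → ℂ) x) ξ *
          ((charDegree ((χ : IrrCharacter G) : G → ℂ) / 2 ^ a : ℕ) : ℤ) =
        ∑ χ : IrrCharacter G with χ ∈ B, mu (fun x : P => (χ : G → ℂ) x) ξ *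
          ((charDegree (χ : G → ℂ) / 2 ^ a : ℕ) : ℤ) := by
      rw [← Finset.sum_subtype_eq_sum_filter, Finset.subtype_univ]
    rw [h1]
    have h2 : (2 : ℤ) ^ a * ∑ χ : IrrCharacter G with χ ∈ B, mu (fun x : P => (χ : G → ℂ) x) ξ *
          ((charDegree (χ : G → ℂ) / 2 ^ a : ℕ) : ℤ) =
        ∑ χ : IrrCharacter G with χ ∈ B, mu (fun x : P => (χ : G → ℂ) x) ξ * (charDegree (χ : G → ℂ) : ℤ) := by
      rw [Finset.mul_sum]
      refine Finset.sum_congr rfl fun χ _ => ?_
      by_cases h0 : mu (fun x : P => (χ : G → ℂ) x) ξ = 0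
      · rw [h0]; ring
      · have h3 : 2 ^ a ∣ charDegree (χ : G → ℂ) := hover χ (by rw [hmu]; exact_mod_cast h0)
        obtain ⟨d, hd⟩ := h3
        rw [hd, Nat.mul_div_cancel_left _ (by positivity)]
        push_cast
        ring
    have h4 : (2 : ℤ) ^ a * (2 ^ v * ∑ χ : IrrCharacter G with χ ∈ B, mu (fun x : P => (χ : G → ℂ) x) ξ *
          ((charDegree (χ : G → ℂ) / 2 ^ a : ℕ) : ℤ)) = 2 ^ a * (2 ^ v * c) := by
      have h5 : (2 : ℤ) ^ a * (2 ^ v * ∑ χ : IrrCharacter G with χ ∈ B, mu (fun x : P => (χ : G → ℂ) x) ξ *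
          ((charDegree (χ : G → ℂ) / 2 ^ a : ℕ) : ℤ)) = 2 ^ v * ((2 : ℤ) ^ a * ∑ χ : IrrCharacter G with χ ∈ B,
          mu (fun x : P => (χ : G → ℂ) x) ξ * ((charDegree (χ : G → ℂ) / 2 ^ a : ℕ) : ℤ)) := by ring
      rw [h5, h2]
      rw [hv] at hsum
      push_cast at hsum
      rw [hsum]
      congr 1
      have h6 : ((∑ χ : IrrCharacter G with χ ∈ B, charDegree (χ : G → ℂ) ^ 2 : ℕ) : ℤ) = ((2 ^ v * c : ℕ) : ℤ) := by
        rw [hc']
      push_cast at h6
      exact h6
    have h7 := mul_left_cancel₀ (pow_ne_zero _ (by norm_num : (2 : ℤ) ≠ 0)) h4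
    have h8 := mul_left_cancel₀ (pow_ne_zero _ (by norm_num : (2 : ℤ) ≠ 0)) h7
    rw [h8]
    exact_mod_cast hc
  -- the involution
  obtain ⟨χ, hfix, hoddχ⟩ := exists_fixed_of_sum
    (fun χ : {χ : IrrCharacter G // χ ∈ B} => (⟨Twist.pw hk.coprime χ.1, pw_mem hk χ.2⟩ : {χ : IrrCharacter G // χ ∈ B}))
    (fun χ => Subtype.ext (pw_pw hk χ.1)) _ (fun χ => by
      have h1 : (fun x : P => (Twist.pw hk.coprime χ.1 : G → ℂ) x) = fun x : P => ((χ : IrrCharacter G) : G → ℂ) x := by
        funext x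
        rw [Twist.pw_apply, hk.two (x : G) (by
          obtain ⟨j, hj⟩ := P.2 x
          obtain ⟨i, -, hi⟩ := (Nat.dvd_prime_pow Nat.prime_two).1 (orderOf_dvd_of_pow_eq_one hj)
          exact ⟨i, by rw [Subgroup.orderOf_coe, hi]⟩)]
      show mu (fun x : P => (Twist.pw hk.coprime χ.1 : G → ℂ) x) ξ *
        ((charDegree (Twist.pw hk.coprime χ.1 : G → ℂ) / 2 ^ a : ℕ) : ℤ) = _
      rw [h1, charDegree_pw hk]) hodd
  refine ⟨χ.1, χ.2, ?_, (Twist.fixed_iff hk.coprime χ.1).1 (congrArg Subtype.val hfix)⟩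
  have h1 : mu (fun x : P => ((χ : IrrCharacter G) : G → ℂ) x) ξ ≠ 0 := by
    intro h
    rw [h, zero_mul] at hoddχ
    exact absurd hoddχ (by decide)
  have h2 := hover χ.1 (by rw [hmu]; exact_mod_cast h1)
  rw [even_iff_two_dvd]
  exact (dvd_pow_self 2 (by omega)).trans h2

end Cfsg.Agent.H724.EB515
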